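import Mathlib.RingTheory.Spectrum.Prime.FreeLocus
import Mathlib.RingTheory.Spectrum.Prime.Module
import Mathlib.RingTheory.LocalProperties.FinitePresentation
import Mathlib.RingTheory.Ideal.Pure
import Mathlib.RingTheory.OrzechProperty
import Mathlib.RingTheory.LocalRing.Module

/-!
When is every finite flat module projective.
-/

set_option autoImplicit false
universe u

namespace Groth.Agent.FlatProj

open TensorProduct PrimeSpectrum

variable {R : Type u} [CommRing R] {M : Type u} [AddCommGroup M] [Module R M]

theorem exists_nhd_generators [Module.Finite R M] [Module.Flat R M] (p : PrimeSpectrum R) :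
    ∃ v : Fin (Module.rankAtStalk M p) → M,
      p ∉ Module.support R (M ⧸ Submodule.span R (Set.range v)) := by
  classical
  let k := p.asIdeal.ResidueField
  have hspan : Submodule.span k (Set.range fun m : M => (1 : k) ⊗ₜ[R] m) = ⊤ := by
    rw [eq_top_iff]
    intro x _
    induction x using TensorProduct.induction_on with
    | zero => exact zero_mem _
    | tmul a m =>
      rw [← mul_one a, ← smul_eq_mul, ← TensorProduct.smul_tmul']
      exact Submodule.smul_mem _ _ (Submodule.subset_span ⟨m, rfl⟩)
    | add a b ha hb => exact add_mem (ha trivial) (hb trivial)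
  obtain ⟨s, hs, hs', hli⟩ := exists_linearIndependent k (Set.range fun m : M => (1 : k) ⊗ₜ[R] m)
  let b := Module.Basis.mk hli (by rw [Subtype.range_coe]; exact (hs'.trans hspan).ge)
  haveI : Fintype s := FiniteDimensional.fintypeBasisIndex b
  have hcard : Fintype.card s = Module.rankAtStalk M p := by
    rw [← Module.finrank_eq_card_basis b, Module.rankAtStalk_eq]
  let e : Fin (Module.rankAtStalk M p) ≃ s := (finCongr hcard.symm).trans (Fintype.equivFin s).symm
  choose v hv using fun i => hs (e i).2
  refine ⟨v, fun hsupp => ?_⟩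
  rw [Module.mem_support_iff_nontrivial_residueField_tensorProduct] at hsupp
  refine not_subsingleton (k ⊗[R] (M ⧸ Submodule.span R (Set.range v))) ?_
  refine subsingleton_of_forall_eq 0 fun y => ?_
  obtain ⟨z, rfl⟩ := LinearMap.lTensor_surjective k (Submodule.mkQ_surjective _) y
  change ((Submodule.span R (Set.range v)).mkQ.baseChange k) z = 0
  suffices h : (Submodule.span R (Set.range v)).mkQ.baseChange k = 0 by rw [h]; rfl
  refine b.ext fun j => ?_
  have : b j = (1 : k) ⊗ₜ[R] v (e.symm j) := by
    rw [Module.Basis.mk_apply]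
    exact (congrArg Subtype.val (e.apply_symm_apply j)).symm.trans (hv (e.symm j)).symm
  rw [this, LinearMap.baseChange_tmul, Submodule.mkQ_apply,
    (Submodule.Quotient.mk_eq_zero (Submodule.span R (Set.range v))).mpr
      (Submodule.subset_span (Set.mem_range_self (e.symm j))),
    TensorProduct.tmul_zero, LinearMap.zero_apply]

theorem rank_le_of_notMem_support [Module.Finite R M] [Module.Flat R M] {n : ℕ} (v : Fin n → M)
    {q : PrimeSpectrum R} (hq : q ∉ Module.support R (M ⧸ Submodule.span R (Set.range v))) :
    Module.rankAtStalk M q ≤ n := by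
  let k := q.asIdeal.ResidueField
  have hsub : Subsingleton (k ⊗[R] (M ⧸ Submodule.span R (Set.range v))) := by
    rw [Module.mem_support_iff_nontrivial_residueField_tensorProduct] at hq
    exact not_nontrivial_iff_subsingleton.mp hq
  have hsurj : Function.Surjective ((Fintype.linearCombination R v).baseChange k) := by
    intro y
    have hex : Function.Exact ((Fintype.linearCombination R v).baseChange k)
        ((Submodule.span R (Set.range v)).mkQ.baseChange k) :=
      lTensor_exact k (by
        rw [LinearMap.exact_iff, Submodule.ker_mkQ, Fintype.range_linearCombination])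
        (Submodule.mkQ_surjective _)
    exact (hex y).mp (Subsingleton.elim _ _)
  rw [Module.rankAtStalk_eq]
  refine (LinearMap.finrank_le_finrank_of_surjective hsurj).trans ?_
  haveI : Nontrivial R := ⟨1, 0, fun h => q.asIdeal.one_notMem (h ▸ zero_mem _)⟩
  rw [Module.finrank_baseChange, Module.finrank_fin_fun]

theorem isLocallyConstant_rank (h : ∀ Z : Set (PrimeSpectrum R), IsClosed Z →
      StableUnderGeneralization Z → IsOpen Z)
    [Module.Finite R M] [Module.Flat R M] (n : ℕ) :
    IsOpen {q : PrimeSpectrum R | n ≤ Module.rankAtStalk M q} := by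
  refine h _ ?_ ?_
  · rw [← isOpen_compl_iff, isOpen_iff_forall_mem_open]
    intro p hp
    obtain ⟨v, hv⟩ := exists_nhd_generators (M := M) p
    refine ⟨_, fun q hq => ?_, Module.isClosed_support.isOpen_compl, hv⟩
    simp only [Set.mem_compl_iff, Set.mem_setOf_eq, not_le] at hp ⊢
    exact (rank_le_of_notMem_support v hq).trans_lt hp
  · intro q p hpq hq
    rw [← PrimeSpectrum.le_iff_specializes] at hpq
    simpa [Module.rankAtStalk_eq_of_le_of_finite_of_flat M hpq] using hq

theorem finitePresentation_of_finite_flat (h : ∀ Z : Set (PrimeSpectrum R), IsClosed Z →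
      StableUnderGeneralization Z → IsOpen Z)
    [Module.Finite R M] [Module.Flat R M] : Module.FinitePresentation R M := by
  classical
  let s : Set R := {g | Module.FinitePresentation (Localization.Away g)
    (LocalizedModule.Away g M)}
  refine Module.FinitePresentation.of_localizationSpan s ?_ fun g => g.2
  rw [← PrimeSpectrum.zeroLocus_empty_iff_eq_top, PrimeSpectrum.zeroLocus_span,
    Set.eq_empty_iff_forall_notMem]
  intro p hp
  set n := Module.rankAtStalk M p with hn
  obtain ⟨v, hv⟩ : ∃ v : Fin n → M, p ∉ Module.support R (M ⧸ Submodule.span R (Set.range v)) :=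
    exists_nhd_generators (M := M) p
  let W := (Module.support R (M ⧸ Submodule.span R (Set.range v)))ᶜ ∩
    {q : PrimeSpectrum R | n ≤ Module.rankAtStalk M q}
  have hW : IsOpen W :=
    Module.isClosed_support.isOpen_compl.inter (isLocallyConstant_rank h n)
  obtain ⟨_, ⟨_, ⟨g, rfl⟩, rfl⟩, hpg, hgW⟩ :=
    PrimeSpectrum.isBasis_basic_opens.exists_subset_of_mem_open (a := p) (show p ∈ W from ⟨hv, le_refl n⟩) hW
  refine hpg (hp (?_ : g ∈ s))
  set f := Fintype.linearCombination R v with hf
  have hrange : LinearMap.range f = Submodule.span R (Set.range v) :=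
    Fintype.range_linearCombination R v
  have hpow : ∀ (J : Ideal R), (∀ q : PrimeSpectrum R, g ∉ q.asIdeal → ¬ J ≤ q.asIdeal) →
      ∃ j : ℕ, g ^ j ∈ J := by
    intro J hJ
    rw [← Ideal.mem_radical_iff, Ideal.radical_eq_sInf, Submodule.mem_sInf]
    intro q hq
    by_contra hgq
    exact hJ ⟨q, hq.2⟩ hgq hq.1
  have hsurj : ∀ m : M, ∃ j : ℕ, g ^ j • m ∈ LinearMap.range f := by
    intro m
    obtain ⟨j, hj⟩ := hpow ((LinearMap.range f).colon {m}) fun q hgq hle => by
      have hsupp : q ∉ Module.support R (M ⧸ Submodule.span R (Set.range v)) := (hgW hgq).1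
      obtain ⟨r, hr, hr0⟩ := Module.notMem_support_iff'.mp hsupp (Submodule.Quotient.mk m)
      refine hr (hle ?_)
      rw [Submodule.mem_colon_singleton, hrange, ← Submodule.Quotient.mk_eq_zero,
        Submodule.Quotient.mk_smul, hr0]
    exact ⟨j, Submodule.mem_colon_singleton.mp hj⟩
  have hinj : ∀ x, f x = 0 → ∃ j : ℕ, g ^ j • x = 0 := by
    intro x hx
    obtain ⟨j, hj⟩ := hpow (Submodule.span R {x}).annihilator fun q hgq hle => by
      obtain ⟨hsupp, hge⟩ := hgW hgq
      have hrank : Module.rankAtStalk M q = n :=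
        le_antisymm (rank_le_of_notMem_support v hsupp) hge
      let A := Localization.AtPrime q.asIdeal
      haveI : Module.Free A (LocalizedModule q.asIdeal.primeCompl M) :=
        Module.free_of_flat_of_isLocalRing
      haveI : Module.Free A (LocalizedModule q.asIdeal.primeCompl (Fin n → R)) :=
        Module.free_of_flat_of_isLocalRing
      let fq := LocalizedModule.map q.asIdeal.primeCompl f
      have hfq : Function.Surjective fq := by
        intro y
        induction y using LocalizedModule.induction_on with
        | _ m t =>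
          obtain ⟨r, hr, hr0⟩ := Module.notMem_support_iff'.mp hsupp (Submodule.Quotient.mk m)
          rw [← Submodule.Quotient.mk_smul, Submodule.Quotient.mk_eq_zero, ← hrange] at hr0
          obtain ⟨y, hy⟩ := hr0
          refine ⟨LocalizedModule.mk y (⟨r, hr⟩ * t), ?_⟩
          rw [LocalizedModule.map_mk, hy]
          exact LocalizedModule.mk_cancel_common_left ⟨r, hr⟩ t m
      have hfin : Module.finrank A (LocalizedModule q.asIdeal.primeCompl (Fin n → R)) =
          Module.finrank A (LocalizedModule q.asIdeal.primeCompl M) := by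
        rcases subsingleton_or_nontrivial R with hR | hR
        · exact absurd (Subsingleton.elim (1 : R) 0 ▸ zero_mem _) q.asIdeal.one_notMem
        · rw [show Module.finrank A (LocalizedModule q.asIdeal.primeCompl M) = n from hrank]
          exact (congrFun (Module.rankAtStalk_eq_finrank_of_free (R := R) (M := Fin n → R)) q).trans
            (Module.finrank_fin_fun R)
      let e := LinearEquiv.ofFinrankEq _ _ hfin
      have hbij : Function.Injective fq := by
        have := OrzechProperty.injective_of_surjective_endomorphism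
          (e.symm.toLinearMap ∘ₗ fq) (e.symm.surjective.comp hfq)
        exact this.of_comp (f := e.symm)
      have h0 : LocalizedModule.mk x (1 : q.asIdeal.primeCompl) = 0 := by
        apply hbij
        rw [LocalizedModule.map_mk, hx, map_zero, LocalizedModule.zero_mk]
      rw [← LocalizedModule.zero_mk 1, LocalizedModule.mk_eq] at h0
      obtain ⟨t, ht⟩ := h0
      simp only [one_smul, smul_zero, Submonoid.smul_def] at ht
      exact t.2 (hle (by rw [Submodule.mem_annihilator_span_singleton]; exact ht))
    exact ⟨j, by rwa [Submodule.mem_annihilator_span_singleton] at hj⟩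
  have hbij : Function.Bijective (LocalizedModule.map (Submonoid.powers g) f) := by
    constructor
    · rw [injective_iff_map_eq_zero]
      intro y
      induction y using LocalizedModule.induction_on with
      | _ x t =>
        intro hy
        rw [LocalizedModule.map_mk, ← LocalizedModule.zero_mk t, LocalizedModule.mk_eq] at hy
        obtain ⟨⟨_, i, rfl⟩, hi⟩ := hy
        simp only [smul_zero, Submonoid.smul_def] at hi
        obtain ⟨j, hj⟩ := hinj (g ^ i • (t : R) • x) (by rw [map_smul, map_smul, hi])
        rw [← LocalizedModule.zero_mk t, LocalizedModule.mk_eq]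
        refine ⟨⟨g ^ (j + i), j + i, rfl⟩, ?_⟩
        simp only [smul_zero, Submonoid.smul_def, pow_add, mul_smul, hj]
    · intro y
      induction y using LocalizedModule.induction_on with
      | _ m t =>
        obtain ⟨j, z, hz⟩ := hsurj m
        refine ⟨LocalizedModule.mk z ((⟨g ^ j, j, rfl⟩ : Submonoid.powers g) * t), ?_⟩
        rw [LocalizedModule.map_mk, hz]
        exact LocalizedModule.mk_cancel_common_left (⟨g ^ j, j, rfl⟩ : Submonoid.powers g) t m
  exact Module.finitePresentation_of_surjective _ hbij.2
    (by rw [LinearMap.ker_eq_bot.mpr hbij.1]; exact Submodule.fg_bot)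

theorem projective_of_finite_flat (h : ∀ Z : Set (PrimeSpectrum R), IsClosed Z →
      StableUnderGeneralization Z → IsOpen Z)
    [Module.Finite R M] [Module.Flat R M] : Module.Projective R M := by
  haveI := finitePresentation_of_finite_flat (M := M) h
  exact Module.freeLocus_eq_univ_iff.mp Module.freeLocus_eq_univ

theorem isOpen_of_forall_projective
    (h : ∀ (M : Type u) [AddCommGroup M] [Module R M], Module.Finite R M → Module.Flat R M →
      Module.Projective R M)
    {Z : Set (PrimeSpectrum R)} (hZ : IsClosed Z) (hgen : StableUnderGeneralization Z) :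
    IsOpen Z := by
  classical
  let I : Ideal R :=
    { carrier := {x | ∀ p ∈ Z, ∃ t ∉ p.asIdeal, t * x = 0}
      add_mem' := fun {x y} hx hy p hp => by
        obtain ⟨t, ht, ht0⟩ := hx p hp
        obtain ⟨t', ht', ht0'⟩ := hy p hp
        exact ⟨t * t', fun hmem => (p.isPrime.mem_or_mem hmem).elim ht ht',
          by linear_combination t' * ht0 + t * ht0'⟩
      zero_mem' := fun p _ => ⟨1, p.asIdeal.one_notMem, mul_zero 1⟩
      smul_mem' := fun r x hx p hp => by
        obtain ⟨t, ht, ht0⟩ := hx p hp
        exact ⟨t, ht, by rw [smul_eq_mul]; linear_combination r * ht0⟩ }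
  have hI1 : ∀ p ∈ Z, I ≤ p.asIdeal := fun p hp x hx => by
    obtain ⟨t, ht, ht0⟩ := hx p hp
    exact ((p.isPrime.mem_or_mem (ht0 ▸ zero_mem _ : t * x ∈ p.asIdeal))).resolve_left ht
  have hsep : ∀ p ∈ Z, ∀ q ∉ Z, ∃ a b : R, a ∉ p.asIdeal ∧ b ∉ q.asIdeal ∧ a * b = 0 := by
    intro p hp q hq
    by_contra hno
    push Not at hno
    obtain ⟨r, hr, -, hdisj⟩ := Ideal.exists_le_prime_disjoint (⊥ : Ideal R)
      (p.asIdeal.primeCompl ⊔ q.asIdeal.primeCompl) (by
        rw [Set.disjoint_left]
        intro x hx hxS
        rw [SetLike.mem_coe, Submodule.mem_bot] at hx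
        rw [SetLike.mem_coe, Submonoid.mem_sup] at hxS
        obtain ⟨a, ha, b, hb, hab⟩ := hxS
        exact hno a b ha hb (hab.trans hx))
    have hrp : (⟨r, hr⟩ : PrimeSpectrum R) ≤ p := fun x hx => by
      by_contra hxp
      exact Set.disjoint_left.mp hdisj hx (Submonoid.mem_sup_left hxp)
    have hrq : (⟨r, hr⟩ : PrimeSpectrum R) ≤ q := fun x hx => by
      by_contra hxq
      exact Set.disjoint_left.mp hdisj hx (Submonoid.mem_sup_right hxq)
    exact hq (hZ.stableUnderSpecialization ((le_iff_specializes _ q).mp hrq)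
      (hgen ((le_iff_specializes _ p).mp hrp) hp))
  have hI2 : ∀ q : PrimeSpectrum R, q ∉ Z → ¬ I ≤ q.asIdeal := by
    intro q hq hle
    choose! a b ha hb hab using fun p hp => hsep p hp q hq
    have hcov : Z ⊆ ⋃ p : Z, (basicOpen (a p) : Set (PrimeSpectrum R)) := fun p hp =>
      Set.mem_iUnion.mpr ⟨⟨p, hp⟩, ha p hp⟩
    obtain ⟨t, ht⟩ := hZ.isCompact.elim_finite_subcover _ (fun _ => (basicOpen _).2) hcov
    have hb' : (∏ p ∈ t, b p) ∈ I := by
      intro p hp
      obtain ⟨i, hi, hpi⟩ := Set.mem_iUnion₂.mp (ht hp)
      refine ⟨a i, hpi, ?_⟩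
      rw [← Finset.mul_prod_erase _ _ hi, ← mul_assoc, hab i.1 i.2, zero_mul]
    obtain ⟨i, -, hi⟩ := (q.isPrime.prod_mem_iff).mp (hle hb')
    exact hb i.1 i.2 hi
  have hfix : ∀ x ∈ I, ∃ y ∈ I, x = y * x := by
    intro x hx
    have htop : (Submodule.span R {x}).annihilator ⊔ I = ⊤ := by
      by_contra hne
      obtain ⟨m, hm, hle⟩ := Ideal.exists_le_maximal _ hne
      by_cases hmZ : (⟨m, hm.isPrime⟩ : PrimeSpectrum R) ∈ Z
      · obtain ⟨t, ht, ht0⟩ := hx _ hmZ
        exact ht ((le_sup_left.trans hle) (by
          rw [Submodule.mem_annihilator_span_singleton, smul_eq_mul, ht0]))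
      · exact hI2 _ hmZ (le_sup_right.trans hle)
    obtain ⟨a, ha, y, hy, hay⟩ := Submodule.mem_sup.mp (htop.symm ▸ Submodule.mem_top : (1 : R) ∈ _)
    refine ⟨y, hy, ?_⟩
    rw [Submodule.mem_annihilator_span_singleton, smul_eq_mul] at ha
    linear_combination ha - x * hay
  haveI : I.Pure := Ideal.Pure.of_inf_eq_mul I fun J _ => le_antisymm (fun x hx => by
    obtain ⟨y, hy, hxy⟩ := hfix x hx.1
    rw [hxy]
    exact Ideal.mul_mem_mul hy hx.2) Ideal.mul_le_inf
  haveI : Module.Projective R (R ⧸ I) := h _ inferInstance inferInstance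
  have hfg : I.FG := by
    haveI := Module.finitePresentation_of_projective R (R ⧸ I)
    rw [← I.ker_mkQ]
    exact Module.FinitePresentation.fg_ker _ I.mkQ_surjective
  obtain ⟨e, he, hIe⟩ :=
    (Ideal.isIdempotentElem_iff_of_fg I hfg).mp I.isIdempotentElem_of_pure
  have hIe' : I = Ideal.span {e} := hIe
  have : Z = (basicOpen (1 - e) : Set (PrimeSpectrum R)) := by
    ext p
    constructor
    · intro hp h1
      have : e ∈ p.asIdeal := hI1 p hp (hIe' ▸ Ideal.mem_span_singleton_self e)
      exact p.asIdeal.one_notMem (by simpa using add_mem h1 this)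
    · intro hp
      by_contra hpZ
      refine hI2 p hpZ (hIe' ▸ ?_)
      rw [Ideal.span_singleton_le_iff_mem]
      have h0 : (1 - e) * e = 0 := by rw [sub_mul, one_mul, he.eq, sub_self]
      exact (p.isPrime.mem_or_mem (h0 ▸ zero_mem _ : (1 - e) * e ∈ p.asIdeal)).resolve_left hp
  rw [this]
  exact (basicOpen (1 - e)).2

end Groth.Agent.FlatProj
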